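import Groth.Agent.CurvSt.K903.AutStmt
import Groth.Agent.CurvSt.K898.MbarEq
import Groth.Agent.CurvSt.K740.CurvAlgFin
import Groth.Agent.CurvSt.K902.EtSchFin
import Groth.Agent.AlgSt.K738.Sep2

/-!
# Finiteness of automorphism groups in full subcategories of the stack of curves with unique limits

The translation of the stack statement into the statement `K903.AutStmt.Stmt` on curves over algebraically closed fields.
-/

set_option autoImplicit false

universe u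

open CategoryTheory CategoryTheory.Limits AlgebraicGeometry Opposite

namespace K738.AutTr

open CurvSt AlgSp K901.GeomFibAt K604.DvrClosed

variable {S : Scheme.{u}} {n : ℕ} {Q₁ : (Curves S n).obj → Prop} {Q₂ : (AlgSt.fullSub (Curves S n) Q₁).obj → Prop}

variable (Q₂) in
/-- A full subcategory of a full subcategory of the stack of curves. -/
abbrev MM : BasedCategory.{u + 1, u + 2} (Over S) := AlgSt.fullSub (AlgSt.fullSub (Curves S n) Q₁) Q₂

variable (Q₂) in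
/-- Stability under pullback. -/
structure Stab : Prop where
  h1 : ∀ {A B : (Curves S n).obj} (_ : A ⟶ B), Q₁ B → Q₁ A
  h2 : ∀ {A B : (AlgSt.fullSub (Curves S n) Q₁).obj} (_ : A ⟶ B), Q₂ B → Q₂ A

/-- The underlying family. -/
abbrev und (B : (MM Q₂).obj) : SpFamObj S n := B.obj.obj.obj

/-- A morphism from a morphism of underlying families. -/
abbrev homOf {A B : (MM Q₂).obj} (φ : und A ⟶ und B) : A ⟶ B := ⟨⟨⟨φ⟩⟩⟩

/-- A family with a morphism to an object is an object. -/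
abbrev liftObj (h : Stab Q₂) (B : (MM Q₂).obj) {F : SpFamObj S n} (φ : F ⟶ und B) : (MM Q₂).obj :=
  let A₀ : (Curves S n).obj := ⟨F, K898.MbarEq.isCurveFam_of_hom φ B.obj.obj.property⟩
  let A₁ : (AlgSt.fullSub (Curves S n) Q₁).obj := ⟨A₀, h.h1 (A := A₀) (B := B.obj.obj) ⟨φ⟩ B.obj.property⟩
  ⟨A₁, h.h2 (A := A₁) (B := B.obj) ⟨⟨φ⟩⟩ B.property⟩

/-- The automorphism of the total space of an endomorphism over the identity. -/
theorem isIso_top {A : PtFamObj S n} (ψ : A ⟶ A) (h : ψ.base = 𝟙 _) : IsIso ψ.top := by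
  have h1 := ψ.cart
  have : IsIso ψ.base.left := by rw [h]; exact inferInstanceAs (IsIso (𝟙 A.base.left))
  exact h1.isIso_fst_of_isIso

theorem lim (h : Stab Q₂) (hu : K738.Sep.UniqLim (MM Q₂)) (B : (MM Q₂).obj) {Ω : Type u} [Field Ω]
    {t : Spec (CommRingCat.of Ω) ⟶ S} (A₁ : PtFamObj S n) (b : A₁.base.left ≅ Spec (CommRingCat.of Ω))
    (hb : b.inv ≫ A₁.base.hom = t) (α : (toSpFam S n).obj A₁ ⟶ und B) :
    K903.AutStmt.Lim (A₁.f ≫ b.hom) (fun i => b.inv ≫ A₁.sect i) := by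
  intro R _ _ _ hR L _ _ _ a XR XL jR qR sqR jL qL sqL τ hτ hτ' e he heτ
  let A_R : PtFamObj S n :=
    { base := Over.mk (a ≫ t)
      C := XR
      f := qR
      sect := fun i => sqR.lift (a ≫ b.inv ≫ A₁.sect i) (𝟙 _) (by
        rw [Category.id_comp, Category.assoc, Category.assoc, reassoc_of% (A₁.sect_f i), b.inv_hom_id,
          Category.comp_id])
      sect_f := fun i => sqR.lift_snd _ _ _ }
  have sqR' : IsPullback jR qR A₁.f (a ≫ b.inv) :=
    IsPullback.of_iso sqR (Iso.refl _) (Iso.refl _) (Iso.refl _) b.symm (by simp) (by simp) (by simp) (by simp)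
  let m_R : A_R ⟶ A₁ :=
    { base := Over.homMk (a ≫ b.inv) (by
        change (a ≫ b.inv) ≫ A₁.base.hom = a ≫ t
        rw [Category.assoc, hb])
      top := jR
      cart := sqR'
      w_sect := fun i => (sqR.lift_fst _ _ _).trans (Category.assoc _ _ _).symm }
  let A_L : PtFamObj S n :=
    { base := Over.mk (Spec.map (CommRingCat.ofHom (algebraMap R L)) ≫ a ≫ t)
      C := XL
      f := qL
      sect := τ
      sect_f := hτ }
  have hw : ∀ i, τ i ≫ jL = Spec.map (CommRingCat.ofHom (algebraMap R L)) ≫ A_R.sect i := fun i => by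
    apply sqR.hom_ext
    · rw [Category.assoc, Category.assoc, hτ' i]
      congr 1
      exact (sqR.lift_fst _ _ _).symm
    · rw [Category.assoc, Category.assoc, sqL.w, reassoc_of% (hτ i)]
      exact (Category.comp_id _).symm.trans (congrArg (fun z => Spec.map (CommRingCat.ofHom (algebraMap R L)) ≫ z)
        (sqR.lift_snd _ _ _).symm)
  let m₁ : A_L ⟶ A_R :=
    { base := jj R L (a ≫ t)
      top := jL
      cart := sqL
      w_sect := hw }
  have sqL' : IsPullback (e.hom ≫ jL) qL qR (Spec.map (CommRingCat.ofHom (algebraMap R L))) :=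
    K901.EtSch.isPullback_of_iso_left sqL e qL he
  let m₂ : A_L ⟶ A_R :=
    { base := jj R L (a ≫ t)
      top := e.hom ≫ jL
      cart := sqL'
      w_sect := fun i => by
        change τ i ≫ e.hom ≫ jL = _
        rw [← Category.assoc, heτ i]
        exact hw i }
  let B_R : (MM Q₂).obj := liftObj h B ((toSpFam S n).map m_R ≫ α)
  let B_L : (MM Q₂).obj := liftObj h B ((toSpFam S n).map m₁ ≫ (toSpFam S n).map m_R ≫ α)
  let r₁ : B_L ⟶ B_R := homOf ((toSpFam S n).map m₁)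
  let r₂ : B_L ⟶ B_R := homOf ((toSpFam S n).map m₂)
  have l₁ : (MM Q₂).p.IsHomLift (jj R L (a ≫ t)) r₁ := IsHomLift.map (MM Q₂).p r₁
  have l₂ : (MM Q₂).p.IsHomLift (jj R L (a ≫ t)) r₂ := IsHomLift.map (MM Q₂).p r₂
  obtain ⟨α', hα', hc⟩ := hu R hR L (a ≫ t) B_R B_R B_L r₁ r₂ l₁ l₂
  obtain ⟨ψ, hψ⟩ := (toSpFam S n).toFunctor.map_surjective (X := A_R) (Y := A_R) α'.hom.hom.hom
  have hb : ψ.base = 𝟙 _ := by
    have h1 : (MM Q₂).p.map α' = 𝟙 _ := by
      have := IsHomLift.fac' (MM Q₂).p (𝟙 (Over.mk (a ≫ t))) α'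
      simpa using this
    have h2 : (α'.hom.hom.hom).base = 𝟙 _ := h1
    rw [← hψ] at h2
    exact h2
  have h3 : m₁ ≫ ψ = m₂ := by
    apply (toSpFam S n).toFunctor.map_injective
    rw [Functor.map_comp, hψ]
    exact congrArg (fun z => z.hom.hom.hom) hc
  have := isIso_top ψ hb
  refine ⟨asIso ψ.top, ?_, ?_⟩
  · have h4 := ψ.cart.w
    rw [hb] at h4
    exact h4.trans (Category.comp_id _)
  · exact congrArg PtFamObj.Hom.top h3

theorem finite_aut_of {T : Over S} (A : (MM Q₂).p.Fiber T) (A₁ : PtFamObj S n)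
    (α : (toSpFam S n).obj A₁ ≅ und A.1) {Ω : Type u} [Field Ω] (b : A₁.base.left ≅ Spec (CommRingCat.of Ω))
    (hfin : K903.AutStmt.FinAut (A₁.f ≫ b.hom) (fun i => b.inv ≫ A₁.sect i)) : Finite (Aut A) := by
  have key : ∀ s : Aut A, ∃ (ψ : A₁ ⟶ A₁), (toSpFam S n).map ψ = α.hom ≫ s.hom.1.hom.hom.hom ≫ α.inv ∧ ψ.base = 𝟙 _ := by
    intro s
    obtain ⟨ψ, hψ⟩ := (toSpFam S n).toFunctor.map_surjective (X := A₁) (Y := A₁) (α.hom ≫ s.hom.1.hom.hom.hom ≫ α.inv)
    refine ⟨ψ, hψ, ?_⟩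
    have h1 : (MM Q₂).p.map s.hom.1 = 𝟙 _ := by
      have := IsHomLift.fac' (MM Q₂).p (𝟙 T) s.hom.1
      simpa using this
    have h2 : (s.hom.1.hom.hom.hom).base = 𝟙 _ := h1
    have h3 := congrArg (fun z => z.base) hψ
    change ψ.base = α.hom.base ≫ (s.hom.1.hom.hom.hom).base ≫ α.inv.base at h3
    rw [h3, h2, Category.id_comp]
    exact congrArg (fun z => z.base) α.hom_inv_id
  choose ψ hψ hb using key
  have hi : ∀ s, IsIso (ψ s).top := fun s => isIso_top _ (hb s)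
  let F : Aut A → {e : A₁.C ≅ A₁.C // e.hom ≫ (A₁.f ≫ b.hom) = A₁.f ≫ b.hom ∧
      ∀ i, (b.inv ≫ A₁.sect i) ≫ e.hom = b.inv ≫ A₁.sect i} := fun s =>
    ⟨@asIso _ _ _ _ (ψ s).top (hi s), by
      have h4 := (ψ s).cart.w
      rw [hb s] at h4
      change (ψ s).top ≫ A₁.f ≫ b.hom = _
      rw [← Category.assoc, h4]
      exact congrArg (fun z => z ≫ b.hom) (Category.comp_id _), fun i => by
      have h5 := (ψ s).w_sect i
      rw [hb s] at h5
      change (b.inv ≫ A₁.sect i) ≫ (ψ s).top = _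
      rw [Category.assoc, h5]
      exact congrArg (fun z => b.inv ≫ z) (Category.id_comp _)⟩
  have : Finite {e : A₁.C ≅ A₁.C // e.hom ≫ (A₁.f ≫ b.hom) = A₁.f ≫ b.hom ∧
      ∀ i, (b.inv ≫ A₁.sect i) ≫ e.hom = b.inv ≫ A₁.sect i} := hfin
  refine Finite.of_injective F fun s s' hss => ?_
  have h6 : (ψ s).top = (ψ s').top := congrArg (fun z => z.1.hom) hss
  have h7 : ψ s = ψ s' := PtFamObj.hom_ext ((hb s).trans (hb s').symm) h6
  have h8 : α.hom ≫ s.hom.1.hom.hom.hom ≫ α.inv = α.hom ≫ s'.hom.1.hom.hom.hom ≫ α.inv := by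
    rw [← hψ s, ← hψ s', h7]
  have h9 : s.hom.1.hom.hom.hom = s'.hom.1.hom.hom.hom := by
    simpa using h8
  refine Iso.ext (Subtype.ext ?_)
  exact ObjectProperty.hom_ext _ (ObjectProperty.hom_ext _ (ObjectProperty.hom_ext _ h9))

/-- **Finiteness of automorphism groups**, from the statement on schemes (`K903.AutStmt.Stmt` for the field `Ω`). -/
theorem main {Ω : Type u} [Field Ω] [IsAlgClosed Ω]
    (hst : ∀ (X : Scheme.{u}) (q : X ⟶ Spec (CommRingCat.of Ω)) [IsProper q]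
      [IsReduced X] [ConnectedSpace X] (_ : topologicalKrullDim X = 1)
      (σ : Fin n → (Spec (CommRingCat.of Ω) ⟶ X)) (_ : ∀ i, σ i ≫ q = 𝟙 _)
      (_ : 3 ≤ 2 * (letI : X.Over (Spec (CommRingCat.of Ω)) := ⟨q⟩; Curv2.genus Ω X) + n),
      K903.AutStmt.Lim q σ → K903.AutStmt.FinAut q σ)
    (h : Stab Q₂) (hu : K738.Sep.UniqLim (MM Q₂)) {g : ℕ} (hg : 3 ≤ 2 * g + n)
    (hQ : ∀ A, Q₁ A → GeomFib (fun _ _ _ X' _ _ =>
      AlgebraicGeometry.IsReduced X' ∧ ConnectedSpace ↥X' ∧ topologicalKrullDim ↥X' = 1) A.obj ∧ SpHasGenus A.obj g)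
    (t : Spec (CommRingCat.of Ω) ⟶ S) (A : (MM Q₂).p.Fiber (Over.mk t)) : Finite (Aut A) := by
  obtain ⟨B, hA⟩ := A
  have hA' : (und B).base = Over.mk t := hA
  have hc : IsCurveFam (und B) := B.obj.obj.property
  obtain ⟨A₁, α, -⟩ := K740.CurvAlg.exists_geom K740.CurvAlg.projEtLoc K740.CurvAlg.existsEmb Ω t hA' hc
    (K902.EtSchFin.etLocSch hc)
  let b : A₁.base ≅ Over.mk t := (SpFamObj.forget S n).mapIso α ≪≫ eqToIso hA'
  obtain ⟨b', hb'⟩ : ∃ b' : A₁.base.left ≅ Spec (CommRingCat.of Ω), b'.inv ≫ A₁.base.hom = t := by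
    have hbi : b.hom.left ≫ b.inv.left = 𝟙 _ := by
      rw [← Over.comp_left, b.hom_inv_id]; rfl
    have hib : b.inv.left ≫ b.hom.left = 𝟙 _ := by
      rw [← Over.comp_left, b.inv_hom_id]; rfl
    exact ⟨⟨b.hom.left, b.inv.left, hbi, hib⟩, Over.w b.inv⟩
  have hc₁ := K898.MbarEq.isCurveFam_of_hom α.hom hc
  have hp : IsProper A₁.f := (K898.MbarEq.facts A₁ hc₁).2.1
  obtain ⟨hU1, hU2⟩ := hQ B.obj.obj B.obj.property
  have hP : IsPullback (𝟙 A₁.C) (A₁.f ≫ b'.hom) A₁.f b'.inv :=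
    IsPullback.of_horiz_isIso ⟨by rw [Category.id_comp, Category.assoc, b'.hom_inv_id, Category.comp_id]⟩
  obtain ⟨h1, h2, h3⟩ := (geomFibAt_toSpFam_iff A₁ b'.inv).1
    (geomFib_iff.1 (K898.MbarEq.geomFib_of_hom α.hom hU1) Ω b'.inv) A₁.C (𝟙 _) (A₁.f ≫ b'.hom) hP
  have h4 := (geomFibAt_toSpFam_iff A₁ b'.inv).1
    (geomFib_iff.1 (K898.MbarEq.geomFib_of_hom α.hom hU2) Ω b'.inv) A₁.C (𝟙 _) (A₁.f ≫ b'.hom) hP
  have : IsProper (A₁.f ≫ b'.hom) := inferInstance
  refine finite_aut_of ⟨B, hA⟩ A₁ α b' (hst A₁.C (A₁.f ≫ b'.hom) h3 (fun i => b'.inv ≫ A₁.sect i)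
    (fun i => ?_) ?_ (lim h hu B A₁ b' hb' α.hom))
  · rw [Category.assoc, reassoc_of% (A₁.sect_f i), b'.inv_hom_id]
  · exact h4 ▸ hg

end K738.AutTr
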