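import Groth.Agent.CurvSt.K901.SchRed
import Groth.Agent.CurvSt.K901.EtSch

/-!
# Openness of the locus of reduced connected curves of genus `g` in the stack of curves, and modular classes

* `hasOpenLocus_U` : reduced, connected of dimension one and genus `g` is an open condition.
* `hasOpenLocus_M` : a deformation open class of curves is an open condition.
-/

set_option autoImplicit false

universe u

open CategoryTheory CategoryTheory.Limits AlgebraicGeometry Opposite

namespace K738.ULoc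

open CurvSt AlgSp K901.GeomFibAt K901.GeomLoc K901.EtSch K901.Loci K901.SchLoc K901.SchPre K901.SchRed
open Groth.Agent

section Fam

variable {n : ℕ}

/-- Reduced, connected, of dimension one and of genus `g`. -/
abbrev UProp (n g : ℕ) : FibProp.{u} n := fun Ω _ _ X' q m =>
  RedConnProp n Ω X' q m ∧ @Curv2.genus Ω _ X' ⟨q⟩ = g

variable {C T : Scheme.{u}} (f : C ⟶ T) (σ : Fin n → (T ⟶ C)) (hσ : ∀ i, σ i ≫ f = 𝟙 T)

/-- The points over which the fibre is geometrically reduced, geometrically connected, of dimension one and genus `g`. -/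
def USet (g : ℕ) : Set T := RedConnSet f ∩ {s | PerfAux.eulerChar f (Coh.structureModule C) s = 1 - (g : ℤ)}

variable [Flat f] [IsProper f] [LocallyOfFinitePresentation f]

theorem isOpen_uSet (g : ℕ) : IsOpen (USet f g) := by
  have h1 := PerfB.Semi.isLocallyConstant_euler f (Coh.structureModule C)
    (PerfB.StructFlat.isFP_structure) (PerfB.StructFlat.isFlatOver_structure f)
  exact (isOpen_redConnSet f).inter (h1.isOpen_fiber (1 - (g : ℤ)))

omit [Flat f] [LocallyOfFinitePresentation f] in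
theorem eulerChar_eq {Ω : Type u} [Field Ω] [IsAlgClosed Ω] {t : Spec (CommRingCat.of Ω) ⟶ T}
    {X' : Scheme.{u}} {i : X' ⟶ C} {q : X' ⟶ Spec (CommRingCat.of Ω)} (hP : IsPullback i q f t)
    (h1 : IsReduced X') (h2 : ConnectedSpace X') (h3 : topologicalKrullDim X' = 1) :
    PerfAux.eulerChar f (Coh.structureModule C) (t.base (IsLocalRing.closedPoint Ω)) =
      1 - (@Curv2.genus Ω _ X' ⟨q⟩ : ℤ) := by
  let i1 : X'.Over (Spec (CommRingCat.of Ω)) := ⟨q⟩
  have hq : IsProper (X' ↘ Spec (CommRingCat.of Ω)) := MorphismProperty.of_isPullback hP inferInstance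
  have h4 : GeometricallyConnected (X' ↘ Spec (CommRingCat.of Ω)) :=
    Fdesc.GeomAlgClosed.geometricallyConnected_of_connectedSpace _
  have h5 : GeometricallyReduced (X' ↘ Spec (CommRingCat.of Ω)) := by
    have h8 : ∀ x, GeomRed q x := (geomRed_iff_isReduced q).2 h1
    refine ⟨fun K _ y Z fst snd hZ => ?_⟩
    have h1 : ∀ z : Z, _root_.IsReduced (Z.presheaf.stalk z) := fun z => h8 (fst z) K Z _ _ _ hZ z rfl
    exact isReduced_of_isReduced_stalk Z
  have hq' : IsProper q := hq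
  have hN : IsNoetherian X' := CurvesB.NodalFibreH.isNoetherian_of_isProper Ω X' q
  have h6 := Groth.Agent.S1536.result Ω X'
  have h7 : ∀ j : ℕ, 2 ≤ j → Subsingleton (Coh.HH X' (Coh.structureModule X') j) := fun j hj =>
    Groth.Agent.S0458.result 1 h3.le (Coh.toAb (Coh.structureModule X')) j (by omega)
  have b := fun j => Groth.Agent.Pi1.H536.GenusFam.finrank_eq_betti f Ω t (IsLocalRing.closedPoint Ω) i hP j
  have key : ∀ (b : ℕ → ℕ), b 0 = 1 → (∀ i, 2 ≤ i → b i = 0) →
      (finsum fun i : ℕ => (-1 : ℤ) ^ i * (b i : ℤ)) = 1 - b 1 := by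
    intro b hb0 hb2
    rw [finsum_eq_sum_of_support_subset (s := Finset.range 2)]
    · simp [Finset.sum_range_succ, hb0]
      ring
    · intro i hi
      simp only [Function.mem_support, ne_eq, mul_eq_zero, not_or] at hi
      by_contra hcon
      simp only [Finset.coe_range, Set.mem_Iio, not_lt] at hcon
      exact hi.2 (by rw [hb2 i hcon]; rfl)
  unfold PerfAux.eulerChar
  rw [key (fun j => PerfAux.betti f (Coh.structureModule C) (t.base (IsLocalRing.closedPoint Ω)) j)
    ((b 0).symm.trans h6) fun j hj => by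
      have := h7 j hj
      exact (b j).symm.trans Module.finrank_zero_of_subsingleton]
  congr 2
  exact (b 1).symm

theorem uProp_iff (g : ℕ) {Ω : Type u} [Field Ω] [IsAlgClosed Ω] {t : Spec (CommRingCat.of Ω) ⟶ T}
    {X' : Scheme.{u}} {i : X' ⟶ C} {q : X' ⟶ Spec (CommRingCat.of Ω)} (hP : IsPullback i q f t) (m : Fin n → X') :
    UProp n g Ω X' q m ↔ t.base (IsLocalRing.closedPoint Ω) ∈ USet f g := by
  constructor
  · rintro ⟨h1, h2⟩
    refine ⟨(redConn_iff f hP m).1 h1, ?_⟩
    change PerfAux.eulerChar f _ _ = _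
    rw [eulerChar_eq f hP h1.1 h1.2.1 h1.2.2, h2]
  · rintro ⟨h1, h2⟩
    have h3 := (redConn_iff f hP m).2 h1
    refine ⟨h3, ?_⟩
    change PerfAux.eulerChar f _ _ = _ at h2
    rw [eulerChar_eq f hP h3.1 h3.2.1 h3.2.2] at h2
    omega

theorem isOpen_uProp (g : ℕ) : IsOpen (Loc (UProp n g) f σ hσ) := by
  have h : Loc (UProp n g) f σ hσ = USet f g := by
    ext s
    refine mem_loc_iff_of f σ hσ _ fun Ω _ _ t ht X' i q hP => ?_
    rw [← ht]
    exact uProp_iff f g hP _
  rw [h]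
  exact isOpen_uSet f g

theorem extDesc_uProp (n g : ℕ) : ExtDesc (UProp.{u} n g) :=
  extDesc_of fun _ _ _ _ f _ _ _ _ _ => ⟨_, fun _ _ _ _ _ _ _ hP => uProp_iff f g hP _⟩

end Fam

section Stack

variable {S : Scheme.{u}} {n : ℕ}

/-- The defining condition of the stack of reduced connected curves of genus `g`. -/
abbrev QU (S : Scheme.{u}) (n g : ℕ) : (Curves S n).obj → Prop := fun A =>
  GeomFib (fun _ _ _ X' _ _ => AlgebraicGeometry.IsReduced X' ∧ ConnectedSpace ↥X' ∧ topologicalKrullDim ↥X' = 1)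
    A.obj ∧ SpHasGenus A.obj g

theorem hasOpenLocus_U (g : ℕ) (hE : ∀ A : (Curves S n).obj, EtLocSch A.obj) :
    K899.OpenCrit.HasOpenLocus (𝒳 := Curves S n) (QU S n g) := by
  have h1 := hasOpenLocus (S := S) (extDesc_uProp n g) hE fun B h1 h2 h3 _ => by
    rw [locus_toSpFam]
    exact isOpen_uProp B.f B.sect B.sect_f g
  have h2 : QU S n g = fun A => GeomFib (UProp n g) A.obj := by
    funext A
    refine propext ⟨fun h Ω _ _ t X' q i hP => ⟨h.1 Ω t X' q i hP, h.2 Ω t X' q i hP⟩, fun h =>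
      ⟨fun Ω _ _ t X' q i hP => (h Ω t X' q i hP).1, fun Ω _ _ t X' q i hP => (h Ω t X' q i hP).2⟩⟩
  rw [h2]
  exact h1

/-- Open loci for a full subcategory. -/
theorem hasOpenLocus_M {Q : (Curves S n).obj → Prop} {P : FibProp.{u} n} (hD : ExtDesc P)
    (H : ∀ B : (AlgSt.fullSub (Curves S n) Q).obj, IsOpen (locus P B.obj.obj)) :
    K899.OpenCrit.HasOpenLocus (𝒳 := AlgSt.fullSub (Curves S n) Q) (fun B => GeomFib P B.obj.obj) := by
  intro x
  refine ⟨⟨locus P x.obj.obj, H x⟩, fun y φ => ?_⟩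
  constructor
  · rintro h _ ⟨b, rfl⟩
    have h' := geomFib_iff.1 h
    exact locus_of_geomFib_of_hom hD x.obj.property φ.hom.hom b (fun Ω _ _ t' _ => h' Ω t')
  · intro h
    refine geomFib_iff.2 fun Ω _ _ t' => ?_
    exact (geomFibAt_iff_of_hom φ.hom.hom t').2 (h ⟨t'.base (IsLocalRing.closedPoint Ω), rfl⟩ Ω _ rfl)

/-- Invariance under extensions in the form of the statements. -/
theorem extDesc_of_ext {P : FibProp.{u} n} (hPext : ∀ (Ω Ω' : Type u) [Field Ω] [IsAlgClosed Ω] [Field Ω'] [IsAlgClosed Ω']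
      (ι : Spec (CommRingCat.of Ω') ⟶ Spec (CommRingCat.of Ω))
      (X : Scheme.{u}) (q : X ⟶ Spec (CommRingCat.of Ω)) (σ : Fin n → (Spec (CommRingCat.of Ω) ⟶ X))
      (X' : Scheme.{u}) (q' : X' ⟶ Spec (CommRingCat.of Ω')) (j : X' ⟶ X)
      (σ' : Fin n → (Spec (CommRingCat.of Ω') ⟶ X')),
      (∀ i, σ i ≫ q = 𝟙 _) → IsPullback j q' q ι → (∀ i, σ' i ≫ q' = 𝟙 _) → (∀ i, σ' i ≫ j = ι ≫ σ i) →
      (P Ω X q (fun i => (σ i).base (IsLocalRing.closedPoint Ω)) ↔
        P Ω' X' q' (fun i => (σ' i).base (IsLocalRing.closedPoint Ω')))) : ExtDesc P := by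
  intro Ω Ω' _ _ _ _ e X X' q q' i σ hσ _ _ hP hX'
  exact (hPext Ω Ω' e X q σ X' q' i (fun k => hP.lift (e ≫ σ k) (𝟙 _) (by
    rw [Category.assoc, hσ, Category.comp_id, Category.id_comp])) hσ hP (fun k => hP.lift_snd _ _ _)
    (fun k => hP.lift_fst _ _ _)).2 hX'

end Stack

end K738.ULoc
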